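import Groth.Agent.Pi1.H391.Stmts3
import Groth.Agent.Pi1.H272.LazPerm
import Groth.Agent.Pi1.H415.KumSH
import Groth.Agent.Pi1.H521.NormalChart
import Groth.Agent.Pi1.H583.KumPrimeMain
import Mathlib.RingTheory.Localization.Away.Basic
import Mathlib.RingTheory.Localization.FractionRing
import Mathlib.RingTheory.TensorProduct.Basic

/-!
# The Kummer stage of the relative Abhyankar lemma (S3689, subtask 807)

`kummerStage : Stmts.StarNormal → Stmts3.KummerStage`.
-/

set_option autoImplicit false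

universe u

open TensorProduct IsLocalRing

namespace Groth.Agent.Pi1.H170.KummerStage

open Groth.Agent.Pi1.H391
open Groth.Agent.Pi1.H390
open Groth.Agent.Hensel.Lazard (Laz)

/-- Localization away from two elements dividing a power of each other. -/
theorem away_of_dvd {R Q : Type u} [CommRing R] [CommRing Q] [Algebra R Q] (x y : R) (N : ℕ)
    (h1 : x ∣ y) (h2 : y ∣ x ^ N) (h : IsLocalization.Away y Q) : IsLocalization.Away x Q := by
  have hu : IsUnit (algebraMap R Q x) :=
    isUnit_of_dvd_unit (map_dvd (algebraMap R Q) h1) (IsLocalization.Away.algebraMap_isUnit y)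
  obtain ⟨c, hc⟩ := h2
  refine ⟨?_, ?_, ?_⟩
  · rintro ⟨_, k, rfl⟩
    rw [map_pow]
    exact hu.pow k
  · intro z
    obtain ⟨⟨a, ⟨_, k, rfl⟩⟩, ha⟩ := IsLocalization.surj (Submonoid.powers y) z
    refine ⟨⟨a * c ^ k, ⟨(x ^ N) ^ k, N * k, pow_mul x N k⟩⟩, ?_⟩
    simp only at ha ⊢
    rw [hc, mul_pow, map_mul, ← mul_assoc, ha, map_mul]
  · intro a b hab
    obtain ⟨⟨_, k, rfl⟩, hk⟩ := IsLocalization.exists_of_eq (M := Submonoid.powers y) hab
    refine ⟨⟨(x ^ N) ^ k, N * k, pow_mul x N k⟩, ?_⟩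
    simp only at hk ⊢
    rw [hc, mul_pow, mul_comm (y ^ k), mul_assoc, mul_assoc, hk]

theorem exists_fractionField (R : Type u) [CommRing R] [IsDomain R] :
    ∃ (K : Type u) (_ : Field K) (_ : Algebra R K), IsFractionRing R K :=
  ⟨FractionRing R, inferInstance, inferInstance, inferInstance⟩

theorem exists_atPrime (R : Type u) [CommRing R] (P : Ideal R) [P.IsPrime] :
    ∃ (B : Type u) (_ : CommRing B) (_ : Algebra R B), IsLocalization.AtPrime B P :=
  ⟨Localization.AtPrime P, inferInstance, inferInstance, inferInstance⟩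

/-- The base change computation at one divisor. -/
theorem local_iso {Kum B' K K' Rt Q C D : Type u} [CommRing Kum] [CommRing B'] [Field K] [Field K']
    [CommRing Rt] [CommRing Q] [CommRing C] [CommRing D]
    [Algebra Kum B'] [Algebra B' K'] [Algebra Kum K'] [IsScalarTower Kum B' K']
    [Algebra Kum D] [Algebra K K'] [Algebra Rt K] [Algebra Rt K'] [IsScalarTower Rt K K']
    [Algebra Rt Q] [Algebra Q K'] [IsScalarTower Rt Q K'] [Algebra Rt C]
    (h : Nonempty (K' ⊗[Kum] D ≃ₐ[K'] K' ⊗[K] (K ⊗[Rt] C))) :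
    Nonempty (K' ⊗[B'] (B' ⊗[Kum] D) ≃ₐ[K'] K' ⊗[Q] (Q ⊗[Rt] C)) := by
  obtain ⟨h⟩ := h
  let e1 : K' ⊗[B'] (B' ⊗[Kum] D) ≃ₐ[K'] K' ⊗[Kum] D :=
    Algebra.TensorProduct.cancelBaseChange Kum B' K' K' D
  let e2 : K' ⊗[K] (K ⊗[Rt] C) ≃ₐ[K'] K' ⊗[Rt] C :=
    Algebra.TensorProduct.cancelBaseChange Rt K K' K' C
  let e3 : K' ⊗[Q] (Q ⊗[Rt] C) ≃ₐ[K'] K' ⊗[Rt] C :=
    Algebra.TensorProduct.cancelBaseChange Rt Q K' K' C
  exact ⟨((e1.trans h).trans e2).trans e3.symm⟩

/-- The hypothesis of `StarNormal` at one divisor. -/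
theorem divisor_step {R R' Rt Q K K' C : Type u} [CommRing R] [CommRing R'] [IsDomain R']
    [Algebra R R'] (t : R) (T : R') (n : ℕ)
    (hT : T ^ n = algebraMap R R' t)
    (hprime' : (Ideal.span {T}).IsPrime)
    (hcomap : (Ideal.span {T}).comap (algebraMap R R') = Ideal.span {t})
    [CommRing Rt] [Algebra R Rt]
    [Field K] [Algebra R K] [Algebra Rt K] [IsScalarTower R Rt K] [IsFractionRing R K]
    [Field K'] [Algebra R' K'] [IsFractionRing R' K']
    [CommRing C] [Algebra Rt C]
    [CommRing Q] [Algebra R' Q] [Algebra Rt Q]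
    [Algebra K K'] [Algebra Rt K'] [IsScalarTower Rt K K']
    [Algebra Q K'] [IsScalarTower Rt Q K']
    (hKK' : ∀ x : R, algebraMap K K' (algebraMap R K x) = algebraMap R' K' (algebraMap R R' x))
    (h : ∃ (B : Type u) (_ : CommRing B) (_ : Algebra R B) (_ : Algebra B K)
      (_ : IsScalarTower R B K) (_ : (Ideal.span {t}).IsPrime)
      (_ : IsLocalization.AtPrime B (Ideal.span {t}))
      (D : Type u) (_ : CommRing D) (_ : Algebra (Stmts3.Kum1 B (algebraMap R B t) n) D)
      (_ : Module.Finite (Stmts3.Kum1 B (algebraMap R B t) n) D)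
      (_ : Algebra.Etale (Stmts3.Kum1 B (algebraMap R B t) n) D),
      ∀ (Q : Type u) [CommRing Q] [Algebra (Stmts3.Kum1 B (algebraMap R B t) n) Q]
        [Algebra K Q] [Algebra B Q] [IsScalarTower B (Stmts3.Kum1 B (algebraMap R B t) n) Q]
        [IsScalarTower B K Q],
        Nonempty (Q ⊗[Stmts3.Kum1 B (algebraMap R B t) n] D ≃ₐ[Q] Q ⊗[K] (K ⊗[Rt] C))) :
    ∃ (B : Type u) (_ : CommRing B) (_ : Algebra R' B) (_ : Algebra B K')
      (_ : IsScalarTower R' B K') (_ : (Ideal.span {T}).IsPrime)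
      (_ : IsLocalization.AtPrime B (Ideal.span {T}))
      (D : Type u) (_ : CommRing D) (_ : Algebra B D) (_ : Module.Finite B D)
      (_ : Algebra.Etale B D), Nonempty (K' ⊗[B] D ≃ₐ[K'] K' ⊗[Q] (Q ⊗[Rt] C)) := by
  obtain ⟨B, _, _, _, _, hprime, _, D, _, _, _, _, h⟩ := h
  obtain ⟨B', _, _, _⟩ := exists_atPrime R' (Ideal.span {T})
  -- `B' → K'`
  have hu1 : ∀ y : (Ideal.span {T} : Ideal R').primeCompl, IsUnit (algebraMap R' K' y) := by
    intro y
    refine isUnit_iff_ne_zero.mpr fun h0 => y.2 ?_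
    have h1 : (y : R') = 0 := (IsFractionRing.injective R' K') (by rw [h0, map_zero])
    rw [h1]
    exact Submodule.zero_mem _
  let _ : Algebra B' K' := (IsLocalization.lift (M := (Ideal.span {T} : Ideal R').primeCompl)
    (S := B') hu1).toAlgebra
  have hB'K' : ∀ x, algebraMap B' K' (algebraMap R' B' x) = algebraMap R' K' x := fun x =>
    IsLocalization.lift_eq hu1 x
  have _ : IsScalarTower R' B' K' := IsScalarTower.of_algebraMap_eq fun x => (hB'K' x).symm
  -- `B → B'`
  have hu2 : ∀ y : (Ideal.span {t} : Ideal R).primeCompl,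
      IsUnit ((algebraMap R' B').comp (algebraMap R R') y) := by
    intro y
    refine IsLocalization.map_units B' (⟨algebraMap R R' y, fun h0 => y.2 ?_⟩ :
      (Ideal.span {T} : Ideal R').primeCompl)
    exact hcomap.le h0
  let _ : Algebra B B' := (IsLocalization.lift (M := (Ideal.span {t} : Ideal R).primeCompl)
    (S := B) hu2).toAlgebra
  have hBB' : ∀ x, algebraMap B B' (algebraMap R B x) = algebraMap R' B' (algebraMap R R' x) :=
    fun x => IsLocalization.lift_eq hu2 x
  -- `Kum → B'`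
  let ψ : Stmts3.Kum1 B (algebraMap R B t) n →ₐ[B] B' :=
    KumBasic.lift (S := B') (fun _ => algebraMap R B t) (fun _ => n)
      (fun _ => algebraMap R' B' T) (fun _ => by rw [hBB', ← hT, map_pow])
  let _ : Algebra (Stmts3.Kum1 B (algebraMap R B t) n) B' := ψ.toRingHom.toAlgebra
  let _ : Algebra (Stmts3.Kum1 B (algebraMap R B t) n) K' :=
    ((algebraMap B' K').comp ψ.toRingHom).toAlgebra
  have _ : IsScalarTower (Stmts3.Kum1 B (algebraMap R B t) n) B' K' :=
    IsScalarTower.of_algebraMap_eq fun x => rfl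
  let _ : Algebra B K' := ((algebraMap B' K').comp (algebraMap B B')).toAlgebra
  have _ : IsScalarTower B (Stmts3.Kum1 B (algebraMap R B t) n) K' :=
    @IsScalarTower.of_algebraMap_eq B (Stmts3.Kum1 B (algebraMap R B t) n) K' _ _ _ _ _ _
      (fun x => congrArg (algebraMap B' K') (ψ.commutes x).symm)
  have _ : IsScalarTower B K K' := by
    refine IsScalarTower.of_algebraMap_eq' ?_
    refine IsLocalization.ringHom_ext (Ideal.span {t} : Ideal R).primeCompl ?_
    ext x
    change algebraMap B' K' (algebraMap B B' (algebraMap R B x)) =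
      algebraMap K K' (algebraMap B K (algebraMap R B x))
    rw [hBB', hB'K', ← IsScalarTower.algebraMap_apply R B K, hKK']
  refine ⟨B', inferInstance, inferInstance, inferInstance, inferInstance, hprime', inferInstance,
    B' ⊗[Stmts3.Kum1 B (algebraMap R B t) n] D, inferInstance, inferInstance, inferInstance,
    inferInstance, local_iso (h K')⟩

/-- The Kummer stage for an abstract algebra `R'`. -/
theorem core (hSN : Stmts.StarNormal.{u})
    (O R : Type u) [CommRing O] [IsDomain O] [IsLocalRing O] [IsIntegrallyClosed O]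
    [CommRing R]
    (σ : Type) [Finite σ]
    (ι : Type) [Fintype ι] (e : ι → σ) (he : Function.Injective e) (t : ι → R) (n : ι → ℕ)
    (R' : Type u) [CommRing R'] [HenselianLocalRing R'] [IsSepClosed (ResidueField R')]
    [Algebra O R'] [IsLocalHom (algebraMap O R')] [Algebra R R']
    [Algebra (MvPolynomial σ O) R'] [IsScalarTower O (MvPolynomial σ O) R']
    (hL : Laz (MvPolynomial σ O) R') (T : ι → R')
    (hX : ∀ i, algebraMap (MvPolynomial σ O) R' (MvPolynomial.X (e i)) = T i)
    (hm : ∀ i, T i ∈ maximalIdeal R')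
    (hT : ∀ i, T i ^ n i = algebraMap R R' (t i))
    (hinj : Function.Injective (algebraMap R R'))
    (ht0 : ∀ i, t i ≠ 0) (hn : ∀ i, 1 ≤ n i)
    (hcomap : ∀ i, (Ideal.span {T i}).comap (algebraMap R R') = Ideal.span {t i})
    (Rt : Type u) [CommRing Rt] [Algebra R Rt] [IsLocalization.Away (∏ i, t i) Rt]
    (K : Type u) [Field K] [Algebra R K] [Algebra Rt K] [IsScalarTower R Rt K] [IsFractionRing R K]
    (C : Type u) [CommRing C] [Algebra Rt C] [Module.Finite Rt C] [Algebra.Etale Rt C]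
    (h : ∀ i, ∃ (B : Type u) (_ : CommRing B) (_ : Algebra R B) (_ : Algebra B K)
      (_ : IsScalarTower R B K) (_ : (Ideal.span {t i}).IsPrime)
      (_ : IsLocalization.AtPrime B (Ideal.span {t i}))
      (D : Type u) (_ : CommRing D) (_ : Algebra (Stmts3.Kum1 B (algebraMap R B (t i)) (n i)) D)
      (_ : Module.Finite (Stmts3.Kum1 B (algebraMap R B (t i)) (n i)) D)
      (_ : Algebra.Etale (Stmts3.Kum1 B (algebraMap R B (t i)) (n i)) D),
      ∀ (Q : Type u) [CommRing Q] [Algebra (Stmts3.Kum1 B (algebraMap R B (t i)) (n i)) Q]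
        [Algebra K Q] [Algebra B Q] [IsScalarTower B (Stmts3.Kum1 B (algebraMap R B (t i)) (n i)) Q]
        [IsScalarTower B K Q],
        Nonempty (Q ⊗[Stmts3.Kum1 B (algebraMap R B (t i)) (n i)] D ≃ₐ[Q] Q ⊗[K] (K ⊗[Rt] C)))
    (Q : Type u) [CommRing Q] [Algebra R' Q] [Algebra Rt Q]
    (hQ : ∀ x : R, algebraMap R' Q (algebraMap R R' x) = algebraMap Rt Q (algebraMap R Rt x))
    [IsLocalization.Away (∏ i, T i) Q] :
    ∃ (E : Type u) (_ : CommRing E) (_ : Algebra R' E) (_ : Module.Finite R' E)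
      (_ : Algebra.Etale R' E), Nonempty (Q ⊗[R'] E ≃ₐ[Q] Q ⊗[Rt] C) := by
  obtain ⟨hdom, -, hj⟩ := Groth.Agent.Pi1.H521.NormalChart.normalChart O R' σ hL
  obtain ⟨K', _, _, _⟩ := exists_fractionField R'
  have hT0 : ∀ i, T i ≠ 0 := by
    intro i h0
    have h1 := hT i
    rw [h0, zero_pow (by have := hn i; omega)] at h1
    exact ht0 i (hinj (by rw [← h1, map_zero]))
  have hP0 : (∏ i, T i) ≠ 0 := Finset.prod_ne_zero_iff.mpr fun i _ => hT0 i
  -- `Q → K'`
  have huQ : IsUnit (algebraMap R' K' (∏ i, T i)) := by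
    refine isUnit_iff_ne_zero.mpr fun h0 => hP0 ?_
    exact (IsFractionRing.injective R' K') (by rw [h0, map_zero])
  let _ : Algebra Q K' := (IsLocalization.Away.lift (S := Q) (∏ i, T i) huQ).toAlgebra
  have hQK' : ∀ x, algebraMap Q K' (algebraMap R' Q x) = algebraMap R' K' x := fun x =>
    IsLocalization.Away.lift_eq (∏ i, T i) huQ x
  have _ : IsScalarTower R' Q K' := IsScalarTower.of_algebraMap_eq fun x => (hQK' x).symm
  -- `K → K'`
  have hinj' : Function.Injective ((algebraMap R' K').comp (algebraMap R R')) :=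
    (IsFractionRing.injective R' K').comp hinj
  have _ : IsDomain R := hinj.isDomain
  let _ : Algebra K K' := (IsFractionRing.lift (K := K) hinj').toAlgebra
  have hKK' : ∀ x, algebraMap K K' (algebraMap R K x) = algebraMap R' K' (algebraMap R R' x) :=
    fun x => IsFractionRing.lift_algebraMap hinj' x
  let _ : Algebra Rt K' := ((algebraMap Q K').comp (algebraMap Rt Q)).toAlgebra
  have _ : IsScalarTower Rt Q K' := IsScalarTower.of_algebraMap_eq fun x => rfl
  have _ : IsScalarTower Rt K K' := by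
    refine IsScalarTower.of_algebraMap_eq' ?_
    refine IsLocalization.ringHom_ext (Submonoid.powers (∏ i, t i)) ?_
    ext x
    change algebraMap Q K' (algebraMap Rt Q (algebraMap R Rt x)) =
      algebraMap K K' (algebraMap Rt K (algebraMap R Rt x))
    rw [← hQ, hQK', ← IsScalarTower.algebraMap_apply R Rt K, hKK']
  exact hSN O R' σ hL ι e he T hX hm Q K' (Q ⊗[Rt] C) fun i =>
    divisor_step (t i) (T i) (n i) (hT i) (hj (e i) (T i) (hX i) (hm i)).1 (hcomap i) hKK' (h i)

/-- Transport of the conclusion along an isomorphism of the base. -/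
theorem transport {Kum R' Q Rt C : Type u} [CommRing Kum] [CommRing R'] (θ : Kum ≃+* R')
    [CommRing Q] [Algebra Kum Q] [Algebra R' Q] (hθ : ∀ x, algebraMap R' Q (θ x) = algebraMap Kum Q x)
    [CommRing Rt] [Algebra Rt Q] [CommRing C] [Algebra Rt C]
    (h : ∃ (E : Type u) (_ : CommRing E) (_ : Algebra R' E) (_ : Module.Finite R' E)
      (_ : Algebra.Etale R' E), Nonempty (Q ⊗[R'] E ≃ₐ[Q] Q ⊗[Rt] C)) :
    ∃ (E : Type u) (_ : CommRing E) (_ : Algebra Kum E) (_ : Module.Finite Kum E)
      (_ : Algebra.Etale Kum E), Nonempty (Q ⊗[Kum] E ≃ₐ[Q] Q ⊗[Rt] C) := by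
  obtain ⟨E, _, _, _, _, ⟨φ⟩⟩ := h
  let _ : Algebra Kum R' := θ.toRingHom.toAlgebra
  let _ : Algebra Kum E := ((algebraMap R' E).comp θ.toRingHom).toAlgebra
  have _ : IsScalarTower Kum R' E := IsScalarTower.of_algebraMap_eq fun x => rfl
  have _ : IsScalarTower Kum R' Q := IsScalarTower.of_algebraMap_eq fun x => (hθ x).symm
  let θ' : Kum ≃ₐ[Kum] R' := { θ with commutes' := fun _ => rfl }
  have _ : Module.Finite Kum R' := Module.Finite.equiv θ'.toLinearEquiv
  have _ : Algebra.Etale Kum R' := Algebra.Etale.of_equiv θ'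
  have _ : Module.Finite Kum E := Module.Finite.trans R' E
  have _ : Algebra.Etale Kum E := Algebra.Etale.comp Kum R' E
  refine ⟨E, inferInstance, inferInstance, inferInstance, inferInstance, ⟨AlgEquiv.trans ?_ φ⟩⟩
  let f : Q ⊗[Kum] E →ₐ[Q] Q ⊗[R'] E := Algebra.TensorProduct.lift (Algebra.ofId Q _)
    ((Algebra.TensorProduct.includeRight : E →ₐ[R'] Q ⊗[R'] E).restrictScalars Kum)
    (fun _ _ => Commute.all _ _)
  let g0 : E →ₐ[R'] Q ⊗[Kum] E :=
    { (Algebra.TensorProduct.includeRight : E →ₐ[Kum] Q ⊗[Kum] E) with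
      commutes' := fun x => by
        obtain ⟨y, rfl⟩ := θ.surjective x
        have h1 : algebraMap R' E (θ y) = algebraMap Kum E y := rfl
        have h2 := (Algebra.TensorProduct.includeRight : E →ₐ[Kum] Q ⊗[Kum] E).commutes y
        rw [h1]
        refine h2.trans ?_
        rw [IsScalarTower.algebraMap_apply Kum R' (Q ⊗[Kum] E)]
        rfl }
  let g : Q ⊗[R'] E →ₐ[Q] Q ⊗[Kum] E := Algebra.TensorProduct.lift (Algebra.ofId Q _) g0
    (fun _ _ => Commute.all _ _)
  refine AlgEquiv.ofAlgHom f g ?_ ?_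
  · refine Algebra.TensorProduct.ext (by ext) ?_
    ext x
    change f (g (1 ⊗ₜ x)) = 1 ⊗ₜ x
    simp only [g, Algebra.TensorProduct.lift_tmul, map_one, one_mul]
    change f (1 ⊗ₜ x) = 1 ⊗ₜ x
    simp only [f, Algebra.TensorProduct.lift_tmul, map_one, one_mul]
    rfl
  · refine Algebra.TensorProduct.ext (by ext) ?_
    ext x
    change g (f (1 ⊗ₜ x)) = 1 ⊗ₜ x
    simp only [f, Algebra.TensorProduct.lift_tmul, map_one, one_mul]
    change g (1 ⊗ₜ x) = 1 ⊗ₜ x
    simp only [g, Algebra.TensorProduct.lift_tmul, map_one, one_mul]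
    rfl

theorem injective_kummer {R : Type u} [CommRing R] [IsDomain R] {ι : Type} (t : ι → R) (n : ι → ℕ)
    (hn : ∀ i, 1 ≤ n i) : Function.Injective (algebraMap R (SGA1t.kummer R t n)) := by
  let Ω := AlgebraicClosure (FractionRing R)
  have hroot : ∀ j, ∃ z : Ω, z ^ n j = algebraMap R Ω (t j) := fun j =>
    IsAlgClosed.exists_pow_nat_eq _ (hn j)
  choose z hz using hroot
  let φ : SGA1t.kummer R t n →ₐ[R] Ω := KumBasic.lift t n z hz
  have hR : Function.Injective (algebraMap R Ω) := by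
    rw [IsScalarTower.algebraMap_eq R (FractionRing R) Ω]
    exact (algebraMap (FractionRing R) Ω).injective.comp (IsFractionRing.injective R (FractionRing R))
  intro x y hxy
  apply hR
  rw [← φ.commutes, ← φ.commutes, hxy]

/-- (S1) The Kummer stage. -/
theorem kummerStage (hSN : Stmts.StarNormal.{u}) : Stmts3.KummerStage.{u} := by
  intro O R _ _ _ _ _ _ _ _ _ σ _ _ _ hL ι _ e he t hX hm n hn Rt _ _ _ K _ _ _ _ _ C _ _ _ _ h Q
    _ _ _ _ _ _ _
  obtain ⟨hdom, -, hj⟩ := Groth.Agent.Pi1.H521.NormalChart.normalChart O R σ hL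
  obtain ⟨R', _, _, _, _, _, _, θ, hL', hX', -⟩ := Groth.Agent.Pi1.H272.LazPerm.exists_kummer e t n hL he hX
  have hloc : IsLocalRing (SGA1t.kummer R t n) := KumBasic.isLocalRing t n hm hn
  have hlocR' : IsLocalRing R' := θ.toRingEquiv.isLocalRing
  have hfin : Module.Finite R (SGA1t.kummer R t n) := KumBasic.finite t n hn
  have hfinR' : Module.Finite R R' := Module.Finite.equiv θ.toLinearEquiv
  have hhens : HenselianLocalRing R' := Groth.Agent.S0505.result R R'
  have hlk : IsLocalHom (algebraMap R (SGA1t.kummer R t n)) := KumBasic.isLocalHom t n hm hn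
  have hlR' : IsLocalHom (algebraMap R R') := by
    refine ⟨fun a ha => ?_⟩
    refine hlk.map_nonunit a ?_
    rw [← θ.commutes a] at ha
    exact (isUnit_map_iff θ _).mp ha
  have hlO : IsLocalHom (algebraMap O R') := by
    rw [IsScalarTower.algebraMap_eq O R R']
    exact RingHom.isLocalHom_comp _ _
  have hsep : IsSepClosed (ResidueField (SGA1t.kummer R t n)) :=
    Groth.Agent.Pi1.H415.KumSH.isSepClosed_residueField t n hm hn
  have hsep' : IsSepClosed (ResidueField R') := by
    have : IsLocalHom (θ.toRingEquiv : SGA1t.kummer R t n →+* R') := ⟨fun a ha =>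
      (isUnit_map_iff θ _).mp ha⟩
    refine Groth.Agent.Pi1.H415.KumSH.isSepClosed_of_surjective
      (ResidueField.map (θ.toRingEquiv : SGA1t.kummer R t n →+* R')) ?_
    intro y
    obtain ⟨x, rfl⟩ := residue_surjective y
    obtain ⟨c, rfl⟩ := θ.surjective x
    exact ⟨residue _ c, ResidueField.map_residue _ _⟩
  have hTpow : ∀ i, θ (KumBasic.T t n i) ^ n i = algebraMap R R' (t i) := by
    intro i
    rw [← map_pow, KumBasic.T_pow, θ.commutes]
  have hinj : Function.Injective (algebraMap R R') := by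
    intro x y hxy
    apply injective_kummer t n hn
    apply θ.injective
    rw [θ.commutes, θ.commutes, hxy]
  have hmT : ∀ i, θ (KumBasic.T t n i) ∈ maximalIdeal R' := by
    intro i
    have h1 : algebraMap R R' (t i) ∈ maximalIdeal R' := by
      rw [mem_maximalIdeal, mem_nonunits_iff]
      intro h2
      exact (mem_maximalIdeal _).mp (hm i) (isUnit_of_map_unit _ _ h2)
    rw [← hTpow i] at h1
    exact (Ideal.IsPrime.mem_of_pow_mem inferInstance _ h1)
  have hcomap : ∀ i, (Ideal.span {θ (KumBasic.T t n i)}).comap (algebraMap R R') =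
      Ideal.span {t i} := by
    intro i
    have hP : (Ideal.span {t i}).IsPrime := (hj (e i) (t i) (hX i) (hm i)).1
    rw [← Groth.Agent.Pi1.H583.KumPrimeMain.comap_span_T R ι t n hn i]
    ext x
    simp only [Ideal.mem_comap, Ideal.mem_span_singleton]
    rw [← θ.commutes x]
    exact map_dvd_iff θ
  have ht0 : ∀ i, t i ≠ 0 := by
    intro i h0
    have h1 : IsUnit (algebraMap R Rt (∏ i, t i)) := IsLocalization.Away.algebraMap_isUnit _
    have h2 : IsUnit (algebraMap Rt K (algebraMap R Rt (∏ i, t i))) := h1.map _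
    rw [← IsScalarTower.algebraMap_apply R Rt K, Finset.prod_eq_zero (Finset.mem_univ i) h0,
      map_zero] at h2
    exact not_isUnit_zero h2
  let _ : Algebra R' Q := ((algebraMap (SGA1t.kummer R t n) Q).comp
    (θ.symm.toRingEquiv : R' →+* SGA1t.kummer R t n)).toAlgebra
  have hθQ : ∀ x, algebraMap R' Q (θ x) = algebraMap (SGA1t.kummer R t n) Q x := by
    intro x
    change algebraMap (SGA1t.kummer R t n) Q (θ.symm (θ x)) = _
    rw [θ.symm_apply_apply]
  have haway : IsLocalization.Away (∏ i, θ (KumBasic.T t n i)) Q := by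
    have h1 : IsLocalization ((Submonoid.powers
        (algebraMap R (SGA1t.kummer R t n) (∏ i, t i))).map θ.toRingEquiv) Q :=
      IsLocalization.isLocalization_of_base_ringEquiv _ Q θ.toRingEquiv
    rw [Submonoid.map_powers] at h1
    have h2 : (θ.toRingEquiv (algebraMap R (SGA1t.kummer R t n) (∏ i, t i)) : R') =
        ∏ i, θ (KumBasic.T t n i) ^ n i := by
      change θ (algebraMap R (SGA1t.kummer R t n) (∏ i, t i)) = _
      rw [θ.commutes, map_prod]
      exact Finset.prod_congr rfl fun i _ => (hTpow i).symm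
    have h3 : IsLocalization.Away (∏ i, θ (KumBasic.T t n i) ^ n i) Q := by
      rw [← h2]
      exact h1
    refine away_of_dvd _ _ (∑ i, n i) ?_ ?_ h3
    · exact Finset.prod_dvd_prod_of_dvd _ _ fun i _ => dvd_pow_self _ (by have := hn i; omega)
    · rw [← Finset.prod_pow]
      exact Finset.prod_dvd_prod_of_dvd _ _ fun i _ => pow_dvd_pow _
        (Finset.single_le_sum (fun _ _ => Nat.zero_le _) (Finset.mem_univ i))
  refine transport θ.toRingEquiv hθQ (core hSN O R σ ι e he t n R' hL'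
    (fun i => θ (KumBasic.T t n i)) hX' hmT hTpow hinj ht0 hn hcomap Rt K C h Q ?_)
  intro x
  rw [← θ.commutes x, hθQ]
  exact (IsScalarTower.algebraMap_apply R (SGA1t.kummer R t n) Q x).symm.trans
    (IsScalarTower.algebraMap_apply R Rt Q x)

end Groth.Agent.Pi1.H170.KummerStage
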